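import Groth.Agent.PushDepth16.Stalk
import Groth.Agent.Alg6.AssDepth
import Groth.Prelude.Def_CAlg
import Mathlib.RingTheory.Flat.Localization
import Mathlib.RingTheory.Flat.Stability
import Mathlib.RingTheory.Regular.Flat

/-!
Depth of stalks of pushforwards.
-/

set_option autoImplicit false
set_option backward.isDefEq.respectTransparency false
set_option backward.isDefEq.respectTransparency.types false
set_option linter.style.haveILetI false

universe u

open CategoryTheory CategoryTheory.Limits AlgebraicGeometry TopologicalSpace Opposite IsLocalRing RingTheory.Sequence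
open scoped Pointwise

noncomputable section

namespace Groth.Agent.PushDepth16

variable {X S : Scheme.{u}} (f : X ⟶ S) (F : X.Modules) {s : S}

/-- Off the image, every generalization inverts some element of the maximal ideal. -/
theorem exists_unit (hs : s ∉ Set.range (fun x => f x)) (x : X) (h : f x ⤳ s) :
    ∃ b ∈ maximalIdeal (S.presheaf.stalk s), IsUnit (ρ f x h b) := by
  obtain ⟨_, ⟨U, hU, rfl⟩, hsU, -⟩ :=
    S.isBasis_affineOpens.exists_subset_of_mem_open (Set.mem_univ s) isOpen_univ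
  replace hU : IsAffineOpen U := hU
  have hns : ¬ s ⤳ f x := fun h' => hs ⟨x, (h.antisymm h').eq⟩
  rw [specializes_iff_forall_open] at hns
  push Not at hns
  obtain ⟨W, hWo, hxW, hsW⟩ := hns
  obtain ⟨a, ha, hxa⟩ := hU.exists_basicOpen_le (V := ⟨W, hWo⟩) ⟨f x, hxW⟩ (h.mem_open U.isOpen hsU)
  refine ⟨S.presheaf.germ U s hsU a, (mem_maximalIdeal _).2 fun hu => hsW (ha ((S.mem_basicOpen a s hsU).2 hu)), ?_⟩
  rw [ρ_germ, ← X.mem_basicOpen, ← Scheme.preimage_basicOpen]
  exact hxa

/-- If `rs` is weakly regular on the local ring at `s`, then it is weakly regular on the stalks over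
generalizations of a flat module. -/
theorem isWeaklyRegular_of_flat (hF : FlatMod.IsFlatOver f F) (x : X) (h : f x ⤳ s)
    {rs : List (S.presheaf.stalk s)} (hr : IsWeaklyRegular (S.presheaf.stalk s) rs) :
    letI : Module (S.presheaf.stalk s) (F.presheaf.stalk x) := Module.compHom _ (ρ f x h).hom
    IsWeaklyRegular (F.presheaf.stalk x) rs := by
  letI := FlatMod.moduleStalkOver f F x
  letI := (S.presheaf.stalkSpecializes h).hom.toAlgebra
  letI : Module (S.presheaf.stalk s) (F.presheaf.stalk x) := Module.compHom _ (ρ f x h).hom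
  haveI : Module.Flat (S.presheaf.stalk (f x)) (F.presheaf.stalk x) := hF x
  haveI : IsScalarTower (S.presheaf.stalk s) (S.presheaf.stalk (f x)) (F.presheaf.stalk x) :=
    IsScalarTower.of_algebraMap_smul fun _ _ => rfl
  haveI : Module.Flat (S.presheaf.stalk s) (S.presheaf.stalk (f x)) := by
    obtain ⟨T, hT⟩ := VarGeom.exists_isLocalization_stalkSpecializes h
    exact IsLocalization.flat (S.presheaf.stalk (f x)) T
  haveI : Module.Flat (S.presheaf.stalk s) (F.presheaf.stalk x) :=
    Module.Flat.trans (S.presheaf.stalk s) (S.presheaf.stalk (f x)) (F.presheaf.stalk x)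
  exact ((TensorProduct.rid (S.presheaf.stalk s) (F.presheaf.stalk x)).isWeaklyRegular_congr rs).1
    hr.isWeaklyRegular_lTensor

local notation "O" => S.presheaf.stalk s

variable [QuasiCompact f]

theorem isSMulRegular_of_flat (hF : FlatMod.IsFlatOver f F) {a : O} (ha : IsSMulRegular O a) :
    IsSMulRegular (((Scheme.Modules.pushforward f).obj F).presheaf.stalk s) a := by
  intro z z' hz
  refine eq_of_forall f F z z' fun x h => ?_
  letI : Module O (F.presheaf.stalk x) := Module.compHom _ (ρ f x h).hom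
  refine (isWeaklyRegular_singleton_iff _ a).1
    (isWeaklyRegular_of_flat f F hF x h ((isWeaklyRegular_singleton_iff _ a).2 ha)) ?_
  show ρ f x h a • μ f F x h z = ρ f x h a • μ f F x h z'
  rw [← μ_smul, ← μ_smul]
  exact congrArg _ hz

theorem isWeaklyRegular_pair [QuasiSeparated f] (hF : FlatMod.IsFlatOver f F) {a b : O}
    (hab : IsWeaklyRegular O [a, b]) :
    IsWeaklyRegular (((Scheme.Modules.pushforward f).obj F).presheaf.stalk s) [a, b] := by
  have ha : IsSMulRegular O a := ((isWeaklyRegular_cons_iff _ a [b]).1 hab).1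
  refine (isWeaklyRegular_cons_iff _ a [b]).2 ⟨isSMulRegular_of_flat f F hF ha,
    (isWeaklyRegular_singleton_iff _ b).2 ((isSMulRegular_iff_right_eq_zero_of_smul).2 fun zb hzb => ?_)⟩
  obtain ⟨z, rfl⟩ := Submodule.Quotient.mk_surjective _ zb
  rw [← Submodule.Quotient.mk_smul, Alg6.mem_pointwise_smul_top_iff] at hzb
  obtain ⟨y, hy⟩ := hzb
  rw [Alg6.mem_pointwise_smul_top_iff]
  have hreg : ∀ x (h : f x ⤳ s), Function.Injective (ρ f x h a • · : F.presheaf.stalk x → _) ∧
      ∃ w : F.presheaf.stalk x, ρ f x h a • w = μ f F x h z := fun x h => by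
    letI : Module O (F.presheaf.stalk x) := Module.compHom _ (ρ f x h).hom
    obtain ⟨h1, h2⟩ := (isWeaklyRegular_cons_iff _ a [b]).1 (isWeaklyRegular_of_flat f F hF x h hab)
    refine ⟨h1, Alg6.mem_pointwise_smul_top_iff.1 (((isSMulRegular_iff_right_eq_zero_of_smul).1
      ((isWeaklyRegular_singleton_iff _ b).1 h2)) (Submodule.Quotient.mk (μ f F x h z)) ?_)⟩
    rw [← Submodule.Quotient.mk_smul, Alg6.mem_pointwise_smul_top_iff]
    refine ⟨μ f F x h y, ?_⟩
    show ρ f x h a • μ f F x h y = ρ f x h b • μ f F x h z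
    rw [← μ_smul, ← μ_smul, hy]
  choose hinj σ hσ using hreg
  obtain ⟨w, hw⟩ := exists_of_germs f F σ fun x h => by
    obtain ⟨Ua, hUa, a', rfl⟩ := S.presheaf.exists_germ_eq a
    obtain ⟨Uz, hUz, z', rfl⟩ := ((Scheme.Modules.pushforward f).obj F).presheaf.exists_germ_eq z
    obtain ⟨W₀, hxW₀, w₀, hw₀⟩ := F.presheaf.exists_germ_eq (σ x h)
    have hxa : x ∈ f ⁻¹ᵁ Ua := h.mem_open Ua.isOpen hUa
    have hxz : x ∈ f ⁻¹ᵁ Uz := h.mem_open Uz.isOpen hUz
    let W₁ : X.Opens := W₀ ⊓ f ⁻¹ᵁ Ua
    let c : Γ(F, W₁) := X.presheaf.map (homOfLE (inf_le_right : W₁ ≤ f ⁻¹ᵁ Ua)).op (f.app Ua a') •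
      F.presheaf.map (homOfLE (inf_le_left : W₁ ≤ W₀)).op w₀
    have hc : ∀ (x' : X) (hx' : x' ∈ W₁) (h' : f x' ⤳ s),
        F.presheaf.germ W₁ x' hx' c = ρ f x' h' (S.presheaf.germ Ua s hUa a') • F.presheaf.germ W₀ x' hx'.1 w₀ :=
      fun x' hx' h' => by
      refine (PresheafOfModules.germ_smul (M := F.val) x' W₁ hx' _ _).trans ?_
      rw [ρ_germ]
      exact congrArg₂ (· • ·) (TopCat.Presheaf.germ_res_apply X.presheaf _ x' hx' _)
        (TopCat.Presheaf.germ_res_apply F.presheaf _ x' hx' w₀)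
    obtain ⟨W, hxW, i1, i2, e⟩ := F.presheaf.germ_eq x (show x ∈ W₁ from ⟨hxW₀, hxa⟩) hxz c z' (by
      rw [hc x ⟨hxW₀, hxa⟩ h, hw₀, hσ, μ_germ])
    refine ⟨W, hxW, F.presheaf.map (i1 ≫ homOfLE inf_le_left).op w₀, fun x' hx' h' => hinj x' h' ?_⟩
    show ρ f x' h' (S.presheaf.germ Ua s hUa a') • σ x' h' = _ • _
    rw [hσ, μ_germ]
    refine Eq.trans ?_ (congrArg (ρ f x' h' (S.presheaf.germ Ua s hUa a') • ·)
      (TopCat.Presheaf.germ_res_apply F.presheaf (i1 ≫ homOfLE inf_le_left) x' hx' w₀).symm)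
    refine (TopCat.Presheaf.germ_res_apply F.presheaf i2 x' hx' z').symm.trans ?_
    rw [← e, TopCat.Presheaf.germ_res_apply]
    exact hc x' (i1.le hx') h'
  exact ⟨w, eq_of_forall f F _ _ fun x h => by rw [μ_smul, hw, hσ]⟩

theorem depth_ge_min [QuasiSeparated f] (hF : FlatMod.IsFlatOver f F) :
    min (2 : ℕ∞) (LocCoh.depth O O) ≤
      LocCoh.depth O (((Scheme.Modules.pushforward f).obj F).presheaf.stalk s) := by
  have hne : maximalIdeal O • (⊤ : Submodule O O) ≠ ⊤ := by
    rw [Ideal.smul_eq_mul, Ideal.mul_top]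
    exact (maximalIdeal.isMaximal O).ne_top
  have key : ∀ n : ℕ, n ≤ 2 → (n : ℕ∞) ≤ LocCoh.depth O O →
      (n : ℕ∞) ≤ LocCoh.depth O (((Scheme.Modules.pushforward f).obj F).presheaf.stalk s) := by
    intro n hn hd
    obtain ⟨rs, hrs, hm, hlen⟩ := Alg6.exists_length_ge_of_le_idealDepth hne hd
    have htake : IsWeaklyRegular O (rs.take n) := by
      rw [← List.take_append_drop n rs, isWeaklyRegular_append_iff] at hrs
      exact hrs.1
    have : IsWeaklyRegular (((Scheme.Modules.pushforward f).obj F).presheaf.stalk s) (rs.take n) := by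
      match n, rs.take n, htake, (by simp [hlen] : (rs.take n).length = n) with
      | 0, [], _, _ => exact IsWeaklyRegular.nil _ _
      | 1, [a], h, _ =>
        rw [isWeaklyRegular_singleton_iff] at h ⊢
        exact isSMulRegular_of_flat f F hF h
      | 2, [a, b], h, _ => exact isWeaklyRegular_pair f F hF h
    refine le_trans ?_ (Alg6.length_le_idealDepth (I := maximalIdeal O) this fun r hr => hm r (List.mem_of_mem_take hr))
    simp [hlen]
  rcases le_total (LocCoh.depth O O) 2 with h2 | h2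
  · rw [min_eq_right h2]
    obtain ⟨n, hn⟩ := ENat.ne_top_iff_exists.1 (ne_top_of_le_ne_top (ENat.coe_ne_top 2) h2)
    rw [← hn] at h2 ⊢
    exact key n (by exact_mod_cast h2) hn.le
  · rw [min_eq_left h2]
    exact key 2 le_rfl h2

theorem two_le_depth [QuasiSeparated f] (hs : s ∉ Set.range (fun x => f x)) [IsNoetherianRing O]
    [Module.Finite O (((Scheme.Modules.pushforward f).obj F).presheaf.stalk s)] :
    (2 : ℕ∞) ≤ LocCoh.depth O (((Scheme.Modules.pushforward f).obj F).presheaf.stalk s) := by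
  have exreg : ∀ (N : Type u) [AddCommGroup N] [Module O N] [Module.Finite O N],
      (∀ z : N, (∀ b ∈ maximalIdeal O, b • z = 0) → z = 0) → ∃ a ∈ maximalIdeal O, IsSMulRegular N a := by
    intro N _ _ _ h
    refine (Alg6.exists_isSMulRegular_mem_iff (maximalIdeal O)).2 fun p hp hle => ?_
    obtain ⟨hpp, z, hz⟩ := Alg6.mem_ass_iff.1 hp
    have := h z fun b hb => (hz b).1 (hle hb)
    exact hpp.ne_top ((Ideal.eq_top_iff_one p).2 ((hz 1).2 (by rw [this, smul_zero])))
  obtain ⟨a, ha, hareg⟩ := exreg (((Scheme.Modules.pushforward f).obj F).presheaf.stalk s) fun z hz =>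
    eq_of_forall f F z 0 fun x h => by
      obtain ⟨b, hb, hu⟩ := exists_unit f hs x h
      refine hu.smul_left_cancel.1 ?_
      rw [← μ_smul, hz b hb, map_zero, smul_zero]
  obtain ⟨b, hb, hbreg⟩ := exreg (QuotSMulTop a (((Scheme.Modules.pushforward f).obj F).presheaf.stalk s))
    fun zb hzb => by
      obtain ⟨z, rfl⟩ := Submodule.Quotient.mk_surjective _ zb
      rw [Alg6.mem_pointwise_smul_top_iff]
      have hy : ∀ c : maximalIdeal O, ∃ y, a • y = c.1 • z := fun c =>
        Alg6.mem_pointwise_smul_top_iff.1 ((Submodule.Quotient.mk_smul ..).trans (hzb c.1 c.2))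
      choose y hy using hy
      have hcomm : ∀ c d : maximalIdeal O, c.1 • y d = d.1 • y c := fun c d => hareg (by
        show a • c.1 • y d = a • d.1 • y c
        rw [smul_comm a, hy, smul_comm a, hy, smul_comm])
      have hex : ∀ x (h : f x ⤳ s), ∃ σ : F.presheaf.stalk x,
          ∀ c : maximalIdeal O, ρ f x h c.1 • σ = μ f F x h (y c) := fun x h => by
        obtain ⟨b, hb, hu⟩ := exists_unit f hs x h
        refine ⟨hu.unit⁻¹.val • μ f F x h (y ⟨b, hb⟩), fun c => hu.smul_left_cancel.1 ?_⟩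
        rw [smul_comm, ← mul_smul (ρ f x h b), IsUnit.mul_val_inv, one_smul, ← μ_smul, ← μ_smul,
          hcomm c ⟨b, hb⟩]
      choose σ hσ using hex
      obtain ⟨w, hw⟩ := exists_of_germs f F σ fun x h => by
        obtain ⟨b, hb, hu⟩ := exists_unit f hs x h
        obtain ⟨Ub, hUb, b', hb'⟩ := S.presheaf.exists_germ_eq b
        obtain ⟨Uy, hUy, y', hy'⟩ :=
          ((Scheme.Modules.pushforward f).obj F).presheaf.exists_germ_eq (y ⟨b, hb⟩)
        subst hb'
        rw [ρ_germ] at hu
        let W : X.Opens := X.basicOpen (f.app Ub b') ⊓ f ⁻¹ᵁ Uy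
        have hxW : x ∈ W := ⟨(X.mem_basicOpen _ x (h.mem_open Ub.isOpen hUb)).2 hu, h.mem_open Uy.isOpen hUy⟩
        have hle : W ≤ f ⁻¹ᵁ Ub := inf_le_left.trans (X.basicOpen_le _)
        have hunit : IsUnit (X.presheaf.map (homOfLE (inf_le_left : W ≤ X.basicOpen (f.app Ub b'))).op
            (X.presheaf.map (homOfLE (X.basicOpen_le (f.app Ub b'))).op (f.app Ub b'))) :=
          (RingedSpace.isUnit_res_basicOpen X.toRingedSpace (f.app Ub b')).map _
        refine ⟨W, hxW, hunit.unit⁻¹.val • F.presheaf.map (homOfLE inf_le_right).op y', fun x' hx' h' => ?_⟩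
        have hu' : IsUnit (ρ f x' h' (S.presheaf.germ Ub s hUb b')) := by
          rw [ρ_germ]
          exact (X.mem_basicOpen _ x' (hle hx')).1 hx'.1
        refine hu'.smul_left_cancel.1 ((hσ x' h' ⟨_, hb⟩).trans ?_)
        rw [← hy', μ_germ, ρ_germ]
        refine Eq.trans ?_ (congrArg₂ (· • ·)
          ((TopCat.Presheaf.germ_res_apply X.presheaf (homOfLE (inf_le_left : W ≤ X.basicOpen (f.app Ub b'))) x' hx' _).trans
            (TopCat.Presheaf.germ_res_apply X.presheaf (homOfLE (X.basicOpen_le (f.app Ub b'))) x' hx'.1 _))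
          (PresheafOfModules.germ_smul (M := F.val) x' W hx' _ _).symm)
        rw [← mul_smul]
        refine Eq.trans ?_ (congrArg (· • F.presheaf.germ W x' hx' (F.presheaf.map (homOfLE inf_le_right).op y'))
          ((map_mul (X.presheaf.germ W x' hx').hom _ _).symm.trans
            ((congrArg _ hunit.mul_val_inv).trans (map_one _)))).symm
        rw [one_smul]
        exact (TopCat.Presheaf.germ_res_apply F.presheaf _ x' hx' y').symm
      refine ⟨w, ?_⟩
      have hz : z = y ⟨a, ha⟩ := hareg (hy ⟨a, ha⟩).symm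
      refine eq_of_forall f F _ _ fun x h => ?_
      rw [μ_smul, hw, hz]
      exact hσ x h ⟨a, ha⟩
  refine le_trans (le_of_eq ?_) (Alg6.length_le_idealDepth (I := maximalIdeal O) (rs := [a, b])
    ((isWeaklyRegular_cons_iff _ a [b]).2 ⟨hareg, (isWeaklyRegular_singleton_iff _ b).2 hbreg⟩) (by simpa using ⟨ha, hb⟩))
  rfl

end Groth.Agent.PushDepth16
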