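import Groth.Agent.VarGeom.Normal
import Groth.Prelude.Def_FlatMod2
import Mathlib.AlgebraicGeometry.Morphisms.QuasiCompact
import Mathlib.AlgebraicGeometry.Morphisms.QuasiSeparated

/-!
Stalks of pushforwards along quasi-compact quasi-separated morphisms, seen as compatible families
of germs over the generalizations of a point.
-/

set_option autoImplicit false
set_option backward.isDefEq.respectTransparency false
set_option backward.isDefEq.respectTransparency.types false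
set_option linter.style.haveILetI false

universe u

open CategoryTheory CategoryTheory.Limits AlgebraicGeometry TopologicalSpace Opposite

noncomputable section

namespace Groth.Agent.PushDepth16

variable {X S : Scheme.{u}} (f : X ⟶ S) (F : X.Modules) {s : S}

/-- Compactness: an open containing the points over generalisations of `s` contains the preimage of
a neighbourhood of `s`. -/
theorem exists_preimage_le {U : S.Opens} (hU : IsAffineOpen U) (hs : s ∈ U) {V : X.Opens}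
    (hVc : IsCompact (V : Set X)) (hV : V ≤ f ⁻¹ᵁ U) (O : X.Opens)
    (hO : ∀ x ∈ V, f x ⤳ s → x ∈ O) :
    ∃ U' : S.Opens, s ∈ U' ∧ U' ≤ U ∧ V ⊓ f ⁻¹ᵁ U' ≤ O := by
  suffices key : ∃ U' : S.Opens, s ∈ U' ∧ U' ≤ U ∧ (V : Set X) ∩ f ⁻¹' (U' : Set S) ⊆ O from key
  refine hVc.induction_on (p := fun t => ∃ U' : S.Opens, s ∈ U' ∧ U' ≤ U ∧ t ∩ f ⁻¹' (U' : Set S) ⊆ O)
    ⟨U, hs, le_rfl, by simp⟩
    (fun a b hab ⟨U', h1, h2, h3⟩ => ⟨U', h1, h2, fun y hy => h3 ⟨hab hy.1, hy.2⟩⟩)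
    (fun a b ⟨U₁, h1, h2, h3⟩ ⟨U₂, h1', h2', h3'⟩ => ⟨U₁ ⊓ U₂, ⟨h1, h1'⟩, inf_le_left.trans h2,
      fun y hy => hy.1.elim (fun h => h3 ⟨h, hy.2.1⟩) fun h => h3' ⟨h, hy.2.2⟩⟩) fun x hx => ?_
  obtain ⟨_, ⟨W, hW, rfl⟩, hxW, hWV⟩ := X.isBasis_affineOpens.exists_subset_of_mem_open hx V.isOpen
  replace hW : IsAffineOpen W := hW
  refine ⟨W, mem_nhdsWithin_of_mem_nhds (W.isOpen.mem_nhds hxW), ?_⟩
  have hWU : W ≤ f ⁻¹ᵁ U := le_trans (show W ≤ V from hWV) hV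
  let φ := (f.appLE U W hWU).hom
  let I := PrimeSpectrum.vanishingIdeal (R := Γ(X, W)) (hW.fromSpec ⁻¹' ((O : Set X)ᶜ))
  let T : Submonoid Γ(S, U) :=
    { carrier := {a | s ∈ S.basicOpen a}
      one_mem' := by simpa using hs
      mul_mem' := fun {a b} ha hb => by
        show s ∈ S.basicOpen (a * b)
        rw [Scheme.basicOpen_mul]
        exact ⟨ha, hb⟩ }
  have hmem : ∀ (a : Γ(S, U)) (P : PrimeSpectrum Γ(X, W)),
      f (hW.fromSpec P) ∈ S.basicOpen a ↔ φ a ∉ P.asIdeal := fun a P => by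
    have h1 : hW.fromSpec ⁻¹ᵁ X.basicOpen (φ a) = PrimeSpectrum.basicOpen (φ a) :=
      hW.fromSpec_preimage_basicOpen _
    have h2 : X.basicOpen (φ a) = W ⊓ f ⁻¹ᵁ S.basicOpen a := Scheme.basicOpen_appLE f W U hWU a
    have h3 : hW.fromSpec P ∈ W := by
      have : hW.fromSpec P ∈ Set.range hW.fromSpec := ⟨P, rfl⟩
      rwa [hW.range_fromSpec] at this
    rw [h2] at h1
    exact (Iff.intro (fun h => (show P ∈ hW.fromSpec ⁻¹ᵁ (W ⊓ f ⁻¹ᵁ S.basicOpen a) from ⟨h3, h⟩))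
      (fun h => h.2)).trans (by rw [h1]; rfl)
  by_cases hd : Disjoint (I : Set Γ(X, W)) (T.map φ : Set Γ(X, W))
  · exfalso
    obtain ⟨P, hP, hIP, hPT⟩ := Ideal.exists_le_prime_disjoint I (T.map φ) hd
    let P' : PrimeSpectrum Γ(X, W) := ⟨P, hP⟩
    have hPO : hW.fromSpec P' ∉ O := by
      have hcl : IsClosed (hW.fromSpec ⁻¹' ((O : Set X)ᶜ)) :=
        O.isOpen.isClosed_compl.preimage hW.fromSpec.continuous
      have : P' ∈ PrimeSpectrum.zeroLocus (I : Set Γ(X, W)) := hIP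
      rwa [PrimeSpectrum.zeroLocus_vanishingIdeal_eq_closure, hcl.closure_eq] at this
    have hPW : hW.fromSpec P' ∈ W := by
      have : hW.fromSpec P' ∈ Set.range hW.fromSpec := ⟨P', rfl⟩
      rwa [hW.range_fromSpec] at this
    have hns : ¬ f (hW.fromSpec P') ⤳ s := fun h => hPO (hO _ (hWV hPW) h)
    rw [specializes_iff_forall_open] at hns
    push Not at hns
    obtain ⟨W', hW'o, hsW', hxW'⟩ := hns
    obtain ⟨a, ha, hsa⟩ := hU.exists_basicOpen_le (V := ⟨W', hW'o⟩) ⟨s, hsW'⟩ hs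
    refine Set.disjoint_right.1 hPT (Submonoid.mem_map_of_mem φ (show a ∈ T from hsa)) ?_
    by_contra hna
    exact hxW' (ha ((hmem a P').2 hna))
  · rw [Set.not_disjoint_iff] at hd
    obtain ⟨_, hI, a, ha, rfl⟩ := hd
    refine ⟨S.basicOpen a, ha, S.basicOpen_le a, fun y ⟨hyW, hya⟩ => ?_⟩
    obtain ⟨P, rfl⟩ : y ∈ Set.range hW.fromSpec := by rwa [hW.range_fromSpec]
    by_contra hyO
    exact (hmem a P).1 hya ((PrimeSpectrum.mem_vanishingIdeal _ _).1 hI P hyO)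

theorem exists_affine_preimage_le {U : S.Opens} (hU : IsAffineOpen U) (hs : s ∈ U) [QuasiCompact f]
    (O : X.Opens) (hO : ∀ x, f x ∈ U → f x ⤳ s → x ∈ O) :
    ∃ U' : S.Opens, IsAffineOpen U' ∧ s ∈ U' ∧ U' ≤ U ∧ f ⁻¹ᵁ U' ≤ O := by
  obtain ⟨U', hsU', hU'U, hle⟩ := exists_preimage_le f hU hs (f.isCompact_preimage hU.isCompact)
    le_rfl O fun x hx h => hO x hx h
  obtain ⟨_, ⟨U'', hU'', rfl⟩, hs'', h''⟩ := S.isBasis_affineOpens.exists_subset_of_mem_open hsU' U'.isOpen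
  exact ⟨U'', hU'', hs'', fun y hy => hU'U (h'' hy), fun x hx => hle ⟨hU'U (h'' hx), h'' hx⟩⟩

/-- The map from the stalk of the pushforward to the stalk over a generalisation. -/
def μ (x : X) (h : f x ⤳ s) :
    ((Scheme.Modules.pushforward f).obj F).presheaf.stalk s ⟶ F.presheaf.stalk x :=
  TopCat.Presheaf.stalkSpecializes ((Scheme.Modules.pushforward f).obj F).presheaf h ≫
    TopCat.Presheaf.stalkPushforward Ab.{u} f.base F.presheaf x

/-- The map of local rings underlying `μ`. -/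
def ρ (x : X) (h : f x ⤳ s) : S.presheaf.stalk s ⟶ X.presheaf.stalk x :=
  S.presheaf.stalkSpecializes h ≫ f.stalkMap x

theorem μ_germ (x : X) (h : f x ⤳ s) (U : S.Opens) (hs : s ∈ U) (z : Γ(F, f ⁻¹ᵁ U)) :
    μ f F x h (((Scheme.Modules.pushforward f).obj F).presheaf.germ U s hs z) =
      F.presheaf.germ (f ⁻¹ᵁ U) x (h.mem_open U.isOpen hs) z := by
  have e1 := congrArg (fun φ => (ConcreteCategory.hom φ) z)
    (TopCat.Presheaf.germ_stalkSpecializes ((Scheme.Modules.pushforward f).obj F).presheaf hs h)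
  have e2 := congrArg (fun φ => (ConcreteCategory.hom φ) z)
    (TopCat.Presheaf.stalkPushforward_germ Ab.{u} f.base F.presheaf U x (h.mem_open U.isOpen hs))
  exact (congrArg (TopCat.Presheaf.stalkPushforward Ab.{u} f.base F.presheaf x).hom e1).trans e2

theorem ρ_germ (x : X) (h : f x ⤳ s) (U : S.Opens) (hs : s ∈ U) (r : Γ(S, U)) :
    ρ f x h (S.presheaf.germ U s hs r) =
      X.presheaf.germ (f ⁻¹ᵁ U) x (h.mem_open U.isOpen hs) (f.app U r) := by
  rw [ρ, CommRingCat.comp_apply, TopCat.Presheaf.germ_stalkSpecializes_apply, Scheme.Hom.germ_stalkMap_apply]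

theorem μ_smul (x : X) (h : f x ⤳ s) (r : S.presheaf.stalk s)
    (z : ((Scheme.Modules.pushforward f).obj F).presheaf.stalk s) :
    μ f F x h (r • z) = ρ f x h r • μ f F x h z := by
  obtain ⟨U₁, h₁, r, rfl⟩ := S.presheaf.exists_germ_eq r
  obtain ⟨U₂, h₂, z, rfl⟩ := ((Scheme.Modules.pushforward f).obj F).presheaf.exists_germ_eq z
  rw [← S.presheaf.germ_res_apply (homOfLE (inf_le_left : U₁ ⊓ U₂ ≤ U₁)) s ⟨h₁, h₂⟩ r,
    ← TopCat.Presheaf.germ_res_apply ((Scheme.Modules.pushforward f).obj F).presheaf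
      (homOfLE (inf_le_right : U₁ ⊓ U₂ ≤ U₂)) s ⟨h₁, h₂⟩ z, μ_germ, ρ_germ]
  refine (congrArg (μ f F x h).hom (PresheafOfModules.germ_smul
    (M := ((Scheme.Modules.pushforward f).obj F).val) s (U₁ ⊓ U₂) ⟨h₁, h₂⟩ _ _).symm).trans ?_
  refine (μ_germ f F x h (U₁ ⊓ U₂) ⟨h₁, h₂⟩ _).trans ?_
  exact PresheafOfModules.germ_smul (M := F.val) x _ _ _ _

theorem eq_of_forall [QuasiCompact f] (z z' : ((Scheme.Modules.pushforward f).obj F).presheaf.stalk s)
    (hz : ∀ x h, μ f F x h z = μ f F x h z') : z = z' := by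
  obtain ⟨U₁, h₁, t, rfl⟩ := ((Scheme.Modules.pushforward f).obj F).presheaf.exists_germ_eq z
  obtain ⟨U₂, h₂, t', rfl⟩ := ((Scheme.Modules.pushforward f).obj F).presheaf.exists_germ_eq z'
  obtain ⟨_, ⟨U, hU, rfl⟩, hs, hle⟩ :=
    S.isBasis_affineOpens.exists_subset_of_mem_open (show s ∈ U₁ ⊓ U₂ from ⟨h₁, h₂⟩) (U₁ ⊓ U₂).isOpen
  have l1 : U ≤ U₁ := fun y hy => (hle hy).1
  have l2 : U ≤ U₂ := fun y hy => (hle hy).2
  let a : Γ(F, f ⁻¹ᵁ U) := ((Scheme.Modules.pushforward f).obj F).presheaf.map (homOfLE l1).op t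
  let b : Γ(F, f ⁻¹ᵁ U) := ((Scheme.Modules.pushforward f).obj F).presheaf.map (homOfLE l2).op t'
  rw [← TopCat.Presheaf.germ_res_apply ((Scheme.Modules.pushforward f).obj F).presheaf (homOfLE l1) s hs t,
    ← TopCat.Presheaf.germ_res_apply ((Scheme.Modules.pushforward f).obj F).presheaf (homOfLE l2) s hs t'] at hz ⊢
  let O : X.Opens := ⨆ W : {W : X.Opens // ∃ hW : W ≤ f ⁻¹ᵁ U,
    F.presheaf.map (homOfLE hW).op a = F.presheaf.map (homOfLE hW).op b}, W.1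
  have hO : ∀ x, f x ∈ U → f x ⤳ s → x ∈ O := fun x hx h => by
    obtain ⟨W, hxW, i1, i2, e⟩ := F.presheaf.germ_eq x hx hx a b
      ((μ_germ f F x h U hs a).symm.trans ((hz x h).trans (μ_germ f F x h U hs b)))
    rw [Subsingleton.elim i2 i1] at e
    exact Opens.mem_iSup.2 ⟨⟨W, i1.le, e⟩, hxW⟩
  obtain ⟨U', -, hsU', hU'U, hle'⟩ := exists_affine_preimage_le f hU hs O hO
  refine (TopCat.Presheaf.germ_res_apply ((Scheme.Modules.pushforward f).obj F).presheaf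
    (homOfLE hU'U) s hsU' a).symm.trans ((congrArg _ ?_).trans
      (TopCat.Presheaf.germ_res_apply ((Scheme.Modules.pushforward f).obj F).presheaf (homOfLE hU'U) s hsU' b))
  refine TopCat.Presheaf.section_ext ⟨F.presheaf, F.isSheaf⟩ (f ⁻¹ᵁ U') _ _ fun x hx => ?_
  obtain ⟨⟨W, hW, e⟩, hxW⟩ := Opens.mem_iSup.1 (hle' hx)
  refine (TopCat.Presheaf.germ_res_apply F.presheaf _ x hx a).trans ?_
  refine Eq.trans ?_ (TopCat.Presheaf.germ_res_apply F.presheaf _ x hx b).symm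
  rw [← TopCat.Presheaf.germ_res_apply F.presheaf (homOfLE hW) x hxW a, e, TopCat.Presheaf.germ_res_apply]

/-- A locally representable family of germs over the generalisations of `s` comes from the stalk
of the pushforward. -/
theorem exists_of_germs [QuasiCompact f] [QuasiSeparated f] (σ : ∀ x : X, f x ⤳ s → F.presheaf.stalk x)
    (hσ : ∀ (x : X), f x ⤳ s → ∃ (W : X.Opens) (_ : x ∈ W) (w : Γ(F, W)),
      ∀ x' (hx' : x' ∈ W) (h' : f x' ⤳ s), σ x' h' = F.presheaf.germ W x' hx' w) :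
    ∃ z, ∀ x h, μ f F x h z = σ x h := by
  classical
  obtain ⟨_, ⟨U, hU, rfl⟩, hs, -⟩ :=
    S.isBasis_affineOpens.exists_subset_of_mem_open (Set.mem_univ s) isOpen_univ
  replace hU : IsAffineOpen U := hU
  have hloc : ∀ p : {x : X // f x ⤳ s}, ∃ (V : X.Opens), IsAffineOpen V ∧ p.1 ∈ V ∧ V ≤ f ⁻¹ᵁ U ∧
      ∃ w : Γ(F, V), ∀ x' (hx' : x' ∈ V) (h' : f x' ⤳ s), σ x' h' = F.presheaf.germ V x' hx' w := fun p => by
    obtain ⟨W, hxW, w, hw⟩ := hσ p.1 p.2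
    obtain ⟨_, ⟨V, hV, rfl⟩, hxV, hle⟩ := X.isBasis_affineOpens.exists_subset_of_mem_open
      (show p.1 ∈ W ⊓ f ⁻¹ᵁ U from ⟨hxW, p.2.mem_open U.isOpen hs⟩) (W ⊓ f ⁻¹ᵁ U).isOpen
    refine ⟨V, hV, hxV, fun y hy => (hle hy).2, F.presheaf.map (homOfLE fun y hy => (hle hy).1).op w,
      fun x' hx' h' => ?_⟩
    rw [TopCat.Presheaf.germ_res_apply, hw x' _ h']
  choose V hV hxV hVU w hw using hloc
  obtain ⟨U₁, hU₁, hs₁, hU₁U, hle₁⟩ := exists_affine_preimage_le f hU hs (⨆ p, V p)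
    fun x _ h => Opens.mem_iSup.2 ⟨⟨x, h⟩, hxV ⟨x, h⟩⟩
  obtain ⟨t, ht⟩ := (f.isCompact_preimage hU₁.isCompact).elim_finite_subcover (fun p => (V p : Set X))
    (fun p => (V p).isOpen) (fun y hy => by simpa using hle₁ hy)
  have hpair : ∀ q : {x : X // f x ⤳ s} × {x : X // f x ⤳ s}, ∃ U' : S.Opens, s ∈ U' ∧ U' ≤ U ∧
      ∀ y (h1 : y ∈ V q.1) (h2 : y ∈ V q.2), f y ∈ U' →
        F.presheaf.germ (V q.1) y h1 (w q.1) = F.presheaf.germ (V q.2) y h2 (w q.2) := fun q => by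
    let O : X.Opens := ⨆ W : {W : X.Opens // ∃ (i1 : W ≤ V q.1) (i2 : W ≤ V q.2),
      F.presheaf.map (homOfLE i1).op (w q.1) = F.presheaf.map (homOfLE i2).op (w q.2)}, W.1
    have hc : IsCompact ((V q.1 ⊓ V q.2 : X.Opens) : Set X) :=
      f.isQuasiSeparated_preimage hU.isQuasiSeparated _ _ (hVU q.1) (V q.1).isOpen (hV q.1).isCompact
        (hVU q.2) (V q.2).isOpen (hV q.2).isCompact
    obtain ⟨U', h1, h2, h3⟩ := exists_preimage_le f hU hs hc (inf_le_left.trans (hVU q.1)) O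
      fun y hy h => by
        obtain ⟨W, hyW, i1, i2, e⟩ := F.presheaf.germ_eq y hy.1 hy.2 (w q.1) (w q.2)
          ((hw q.1 y hy.1 h).symm.trans (hw q.2 y hy.2 h))
        exact Opens.mem_iSup.2 ⟨⟨W, i1.le, i2.le, e⟩, hyW⟩
    refine ⟨U', h1, h2, fun y hy1 hy2 hyU => ?_⟩
    obtain ⟨⟨W, i1, i2, e⟩, hyW⟩ := Opens.mem_iSup.1 (h3 ⟨⟨hy1, hy2⟩, hyU⟩)
    rw [← TopCat.Presheaf.germ_res_apply F.presheaf (homOfLE i1) y hyW (w q.1), e,
      TopCat.Presheaf.germ_res_apply]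
  choose Up hsUp hUpU hUp using hpair
  let U' : S.Opens := U₁ ⊓ (t ×ˢ t).inf Up
  have hsU' : s ∈ U' := ⟨hs₁, Finset.inf_induction (p := fun W : S.Opens => s ∈ W) trivial
    (fun a ha b hb => ⟨ha, hb⟩) fun q _ => hsUp q⟩
  let V' : {p // p ∈ t} → X.Opens := fun i => V i.1 ⊓ f ⁻¹ᵁ U'
  let wr : ∀ i, Γ(F, V' i) := fun i => F.presheaf.map (homOfLE inf_le_left).op (w i.1)
  have hcov : f ⁻¹ᵁ U' ≤ iSup V' := fun y hy => by
    obtain ⟨p, hp, hyp⟩ := Set.mem_iUnion₂.1 (ht hy.1)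
    exact Opens.mem_iSup.2 ⟨⟨p, hp⟩, hyp, hy⟩
  obtain ⟨g, hg, -⟩ := TopCat.Sheaf.existsUnique_gluing' ⟨F.presheaf, F.isSheaf⟩ V' (f ⁻¹ᵁ U')
    (fun i => homOfLE inf_le_right) hcov wr (fun i j => by
      refine TopCat.Presheaf.section_ext ⟨F.presheaf, F.isSheaf⟩ _ _ _ fun y hy => ?_
      refine (TopCat.Presheaf.germ_res_apply F.presheaf _ y hy _).trans ?_
      refine Eq.trans ?_ (TopCat.Presheaf.germ_res_apply F.presheaf _ y hy _).symm
      refine (TopCat.Presheaf.germ_res_apply F.presheaf _ y _ _).trans ?_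
      refine Eq.trans ?_ (TopCat.Presheaf.germ_res_apply F.presheaf _ y _ _).symm
      have hyU : f y ∈ (t ×ˢ t).inf Up := hy.1.2.2
      exact hUp (i.1, j.1) y hy.1.1 hy.2.1
        ((Finset.inf_le (f := Up) (Finset.mem_product.2 ⟨i.2, j.2⟩)) hyU))
  refine ⟨((Scheme.Modules.pushforward f).obj F).presheaf.germ U' s hsU' g, fun x h => ?_⟩
  rw [μ_germ]
  obtain ⟨i, hxi⟩ := Opens.mem_iSup.1 (hcov (h.mem_open U'.isOpen hsU'))
  refine (TopCat.Presheaf.germ_res_apply F.presheaf (homOfLE (inf_le_right : V' i ≤ f ⁻¹ᵁ U')) x hxi g).symm.trans ?_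
  refine (congrArg _ (hg i)).trans ((TopCat.Presheaf.germ_res_apply F.presheaf _ x hxi _).trans ?_)
  exact (hw i.1 x hxi.1 h).symm

end Groth.Agent.PushDepth16
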